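import Mathlib

/-!
Group homomorphisms into division rings.
-/

set_option autoImplicit false
set_option linter.style.haveILetI false

namespace Cfsg.Agent.Lib.DivRingSL25

universe u v

local notation "S25" => Matrix.SpecialLinearGroup (Fin 2) (ZMod 5)

variable {D : Type u} [DivisionRing D] {G : Type v} [Group G] {φ : G →* D}

theorem charZero_of_insoluble [Finite G] (hφ : Function.Injective φ) (hns : ¬ Group.IsSolvable G) :
    CharZero D := by
  classical
  obtain ⟨p, hp⟩ := CharP.exists D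
  rcases CharP.char_is_prime_or_zero D p with hpp | rfl
  swap
  · exact CharP.charP_to_charZero D
  exfalso
  haveI : Fact p.Prime := ⟨hpp⟩
  haveI : CharP D p := hp
  letI : Algebra (ZMod p) D := ZMod.algebra D p
  refine hns ?_
  let A := Algebra.adjoin (ZMod p) (Set.range φ)
  haveI : Finite A := by
    have hfg : (Subalgebra.toSubmodule A).FG := by
      refine ⟨(Set.finite_range φ).toFinset, ?_⟩
      rw [Set.Finite.coe_toFinset, Algebra.adjoin_eq_span, ← MonoidHom.coe_mrange,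
        Submonoid.closure_eq]
    haveI : Module.Finite (ZMod p) A := Module.Finite.iff_fg.2 hfg
    exact Module.finite_of_finite (ZMod p)
  have hcomm : ∀ x y : A, x * y = y * x := by
    haveI := Fintype.ofFinite A
    haveI : IsDomain A := inferInstance
    exact fun x y => (Finite.isDomain_to_isField A).mul_comm x y
  refine Group.isSolvable_of_comm fun x y => hφ ?_
  rw [map_mul, map_mul]
  exact congrArg Subtype.val (hcomm ⟨φ x, Algebra.subset_adjoin ⟨x, rfl⟩⟩
    ⟨φ y, Algebra.subset_adjoin ⟨y, rfl⟩⟩)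

theorem map_inv_eq (g : G) {d : D} (h : d * φ g = 1) : φ g⁻¹ = d := by
  have e : φ g * φ g⁻¹ = 1 := by rw [← map_mul, mul_inv_cancel, map_one]
  calc φ g⁻¹ = d * φ g * φ g⁻¹ := by rw [h, one_mul]
    _ = d := by rw [mul_assoc, e, mul_one]

theorem map_eq_neg_one (hφ : Function.Injective φ) {z : G} (hz : z * z = 1) (hz1 : z ≠ 1) :
    φ z = -1 := by
  have h : φ z * φ z = 1 := by rw [← map_mul, hz, map_one]
  exact (mul_self_eq_one_iff.1 h).resolve_left fun h1 => hz1 (hφ (h1.trans (map_one φ).symm))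

theorem eq_or_eq_of_commute_sq (hφ : Function.Injective φ) {z x y : G} (hz : φ z = -1)
    (hx : x * x = z) (hy : y * y = z) (hc : Commute x y) : x = y ∨ x = z * y := by
  have h : (φ x - φ y) * (φ x + φ y) = 0 := by
    have hc' : φ y * φ x = φ x * φ y := by rw [← map_mul, ← map_mul, hc.eq]
    have e : (φ x - φ y) * (φ x + φ y) = φ x * φ x - φ y * φ y + (φ x * φ y - φ y * φ x) := by
      noncomm_ring
    rw [e, hc', sub_self, add_zero, ← map_mul, ← map_mul, hx, hy, sub_self]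
  rcases mul_eq_zero.1 h with h | h
  · exact Or.inl (hφ (sub_eq_zero.1 h))
  · exact Or.inr (hφ (by rw [map_mul, hz, neg_one_mul]; exact eq_neg_of_add_eq_zero_left h))

theorem commute_map_inv {s : D} {g : G} (h : Commute s (φ g)) : Commute s (φ g⁻¹) := by
  have h1 : φ g⁻¹ * φ g = 1 := by rw [← map_mul, inv_mul_cancel, map_one]
  have h2 : φ g * φ g⁻¹ = 1 := by rw [← map_mul, mul_inv_cancel, map_one]
  show s * φ g⁻¹ = φ g⁻¹ * s
  calc s * φ g⁻¹ = φ g⁻¹ * (φ g * s) * φ g⁻¹ := by rw [← mul_assoc (φ g⁻¹), h1, one_mul]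
    _ = φ g⁻¹ * s * (φ g * φ g⁻¹) := by rw [← h.eq]; noncomm_ring
    _ = φ g⁻¹ * s := by rw [h2, mul_one]

theorem map_ne_zero' (g : G) : φ g ≠ 0 := fun h => by
  have h1 : φ g * φ g⁻¹ = 1 := by rw [← map_mul, mul_inv_cancel, map_one]
  rw [h, zero_mul] at h1; exact zero_ne_one h1

theorem geom_five {w : D} (hw5 : w ^ 5 = 1) (hw1 : w ≠ 1) :
    1 + w + w ^ 2 + w ^ 3 + w ^ 4 = 0 := by
  have h : (w - 1) * (1 + w + w ^ 2 + w ^ 3 + w ^ 4) = 0 := by
    have : (w - 1) * (1 + w + w ^ 2 + w ^ 3 + w ^ 4) = w ^ 5 - 1 := by noncomm_ring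
    rw [this, hw5, sub_self]
  exact (mul_eq_zero.1 h).resolve_left (sub_ne_zero.2 hw1)

theorem golden_sq {w : D} (hw5 : w ^ 5 = 1) (hw1 : w ≠ 1) :
    (w + w ^ 4) * (w + w ^ 4) + (w + w ^ 4) = 1 := by
  have hw8 : w ^ 8 = w ^ 3 := by rw [show 8 = 5 + 3 from rfl, pow_add, hw5, one_mul]
  have : (w + w ^ 4) * (w + w ^ 4) + (w + w ^ 4) =
      (1 + w + w ^ 2 + w ^ 3 + w ^ 4) + (w ^ 8 - w ^ 3) + 2 * (w ^ 5) - 1 := by noncomm_ring
  rw [this, geom_five hw5 hw1, hw5, hw8]; noncomm_ring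

theorem golden_ne [CharZero D] {s : D} (hs2 : s * s + s = 1) : s + s + 1 ≠ 0 := by
  intro h
  have e : (s + s + 1) * (s + s + 1) = 4 * (s * s + s) + 1 := by noncomm_ring
  rw [h, hs2, mul_zero, mul_one] at e
  norm_num at e

end Cfsg.Agent.Lib.DivRingSL25
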