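import Mathlib

/-!
Primes `n ≡ 3 (mod 20)` with `2n = a² + 5b²` in a prescribed residue class.
-/

set_option autoImplicit false

namespace Cfsg.Agent.Lib.DivRingSL25

theorem not_isSquare_three : ¬ IsSquare (3 : ZMod 5) := by decide

theorem exists_rep {n : ℕ} [hn : Fact n.Prime] (h20 : n % 20 = 3) :
    ∃ a b : ℤ, a ^ 2 + 5 * b ^ 2 = 2 * n := by
  classical
  haveI : Fact (Nat.Prime 5) := ⟨by norm_num⟩
  have hn2 : n ≠ 2 := by omega
  have hc : ringChar (ZMod n) ≠ 2 := by rw [ZMod.ringChar_zmod_n]; exact hn2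
  have h1 : quadraticChar (ZMod n) (-1) = -1 :=
    (quadraticChar_neg_one_iff_not_isSquare).2 (by rw [ZMod.exists_sq_eq_neg_one_iff]; omega)
  have h5 : quadraticChar (ZMod n) ((5 : ℕ) : ZMod n) = -1 := by
    refine (quadraticChar_neg_one_iff_not_isSquare).2 ?_
    rw [← ZMod.exists_sq_eq_prime_iff_of_mod_four_eq_one (p := 5) (by norm_num) hn2]
    rw [← ZMod.natCast_mod n 5, show n % 5 = 3 by omega, Nat.cast_ofNat]
    exact not_isSquare_three
  have h5' : IsSquare (-(5 : ZMod n)) := by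
    have h50 : (-(5 : ZMod n)) ≠ 0 := by
      intro h
      have := quadraticChar_eq_zero_iff (F := ZMod n) (a := ((5 : ℕ) : ZMod n))
      rw [h5] at this
      exact absurd (this.2 (by simpa using h)) (by norm_num)
    rw [← quadraticChar_one_iff_isSquare h50, neg_eq_neg_one_mul, map_mul, h1,
      show (5 : ZMod n) = ((5 : ℕ) : ZMod n) by norm_num, h5]
    norm_num
  obtain ⟨x, hx⟩ := h5'
  set A := Nat.sqrt (2 * n) with hA
  set B := Nat.sqrt (n / 2) with hB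
  have hA1 : A * A ≤ 2 * n := Nat.sqrt_le _
  have hB1 : B * B ≤ n / 2 := Nat.sqrt_le _
  have hA2 : 2 * n < (A + 1) * (A + 1) := Nat.lt_succ_sqrt _
  have hB2 : n / 2 < (B + 1) * (B + 1) := Nat.lt_succ_sqrt _
  have hcard : n < (A + 1) * (B + 1) := by
    by_contra hle
    push Not at hle
    have h3 : n + 1 ≤ 2 * ((B + 1) * (B + 1)) := by omega
    have := Nat.mul_le_mul (Nat.succ_le_of_lt hA2) h3
    have h4 := Nat.mul_le_mul hle hle
    nlinarith
  obtain ⟨p, -, q, -, hpq, he⟩ := Finset.exists_ne_map_eq_of_card_lt_of_maps_to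
    (s := (Finset.univ : Finset (Fin (A + 1) × Fin (B + 1)))) (t := (Finset.univ : Finset (ZMod n)))
    (f := fun p => ((p.1 : ℕ) : ZMod n) - x * ((p.2 : ℕ) : ZMod n))
    (by simpa [ZMod.card] using hcard) (fun _ _ => Finset.mem_univ _)
  set a : ℤ := (p.1 : ℕ) - (q.1 : ℕ) with ha
  set b : ℤ := (p.2 : ℕ) - (q.2 : ℕ) with hb
  have hdvd : (n : ℤ) ∣ a ^ 2 + 5 * b ^ 2 := by
    rw [← ZMod.intCast_zmod_eq_zero_iff_dvd]
    have hab : ((a : ℤ) : ZMod n) = x * ((b : ℤ) : ZMod n) := by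
      simp only [ha, hb, Int.cast_sub, Int.cast_natCast]
      linear_combination he
    push_cast
    rw [hab]
    linear_combination (-((b : ℤ) : ZMod n) ^ 2) * hx
  obtain ⟨k, hk⟩ := hdvd
  have hp1 := p.1.isLt; have hp2 := p.2.isLt; have hq1 := q.1.isLt; have hq2 := q.2.isLt
  have hab2 : a ^ 2 ≤ (A : ℤ) * A ∧ b ^ 2 ≤ (B : ℤ) * B := by
    constructor <;> · rw [← sq]; exact sq_le_sq' (by omega) (by omega)
  have hne : a ≠ 0 ∨ b ≠ 0 := by
    by_contra h
    push Not at h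
    exact hpq (Prod.ext (Fin.ext (by omega)) (Fin.ext (by omega)))
  have hpos : 0 < a ^ 2 + 5 * b ^ 2 := by
    rcases hne with h | h <;> positivity
  have hub : a ^ 2 + 5 * b ^ 2 < 5 * (n : ℤ) := by
    have e1 : ((A * A : ℕ) : ℤ) ≤ ((2 * n : ℕ) : ℤ) := by exact_mod_cast hA1
    have e2 : ((2 * (B * B) : ℕ) : ℤ) ≤ (n : ℤ) := by exact_mod_cast (by omega : 2 * (B * B) ≤ n)
    push_cast at e1 e2
    have e3 : (0 : ℤ) < n := by exact_mod_cast hn.out.pos
    linarith [hab2.1, hab2.2]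
  have hn0 : (0 : ℤ) < n := by exact_mod_cast hn.out.pos
  have hk1 : 0 < k := pos_of_mul_pos_right (hk ▸ hpos) hn0.le
  have hk5 : k < 5 := lt_of_mul_lt_mul_left (by linarith) hn0.le
  have hn20 : (n : ℤ) % 20 = 3 := by omega
  interval_cases k
  · exfalso
    have h4 : ((a ^ 2 + 5 * b ^ 2 : ℤ) : ZMod 4) = 3 := by
      rw [hk, ← ZMod.intCast_mod _ 4, show ((n : ℤ) * 1) % ((4 : ℕ) : ℤ) = 3 by omega]
      norm_num
    push_cast at h4
    revert h4; generalize (a : ZMod 4) = u; generalize (b : ZMod 4) = v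
    revert u v; decide +kernel
  · exact ⟨a, b, by linarith⟩
  · have h3 : (a : ℤ) % 3 = b % 3 ∨ (a : ℤ) % 3 = (-b) % 3 := by
      have h0 : ((a ^ 2 + 5 * b ^ 2 : ℤ) : ZMod 3) = 0 := by
        rw [hk, ZMod.intCast_zmod_eq_zero_iff_dvd]; exact ⟨n, by ring⟩
      push_cast at h0
      have key : ∀ u v : ZMod 3, u ^ 2 + 5 * v ^ 2 = 0 → u = v ∨ u = -v := by decide
      rcases key _ _ h0 with h | h
      · left; exact (ZMod.intCast_eq_intCast_iff' a b 3).1 h
      · right; exact (ZMod.intCast_eq_intCast_iff' a (-b) 3).1 (by push_cast; exact h)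
    rcases h3 with h | h
    · obtain ⟨c, hc⟩ : (3 : ℤ) ∣ a - b := Int.dvd_of_emod_eq_zero (by omega)
      refine ⟨c + 2 * b, c, ?_⟩
      have e : a = 3 * c + b := by linarith
      rw [e] at hk
      exact mul_left_cancel₀ (show (3 : ℤ) ≠ 0 by norm_num) (by linear_combination 2 * hk)
    · obtain ⟨c, hc⟩ : (3 : ℤ) ∣ a + b := Int.dvd_of_emod_eq_zero (by omega)
      refine ⟨c - 2 * b, c, ?_⟩
      have e : a = 3 * c - b := by linarith
      rw [e] at hk
      exact mul_left_cancel₀ (show (3 : ℤ) ≠ 0 by norm_num) (by linear_combination 2 * hk)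
  · exfalso
    have h16 : ((a ^ 2 + 5 * b ^ 2 : ℤ) : ZMod 16) = 12 := by
      rw [hk, ← ZMod.intCast_mod _ 16, show ((n : ℤ) * 4) % ((16 : ℕ) : ℤ) = 12 by omega]
      norm_num
    push_cast at h16
    revert h16; generalize (a : ZMod 16) = u; generalize (b : ZMod 16) = v
    revert u v; decide +kernel

theorem exists_good_prime {r : ℕ} (hr : r.Prime) (h2 : r ≠ 2) (h5 : r ≠ 5) :
    ∃ n : ℕ, n.Prime ∧ n % 4 = 3 ∧ r ∣ n + 1 ∧ ∃ a b : ℤ, a ^ 2 + 5 * b ^ 2 = 2 * n := by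
  haveI : NeZero (20 * r) := ⟨by have := hr.pos; omega⟩
  have hco : Nat.Coprime 20 r := by
    refine ((hr.coprime_iff_not_dvd).2 fun h => ?_).symm
    have : r ∣ 2 ^ 2 * 5 := h
    rcases hr.dvd_mul.1 this with h | h
    · exact h2 ((Nat.prime_dvd_prime_iff_eq hr Nat.prime_two).1 (hr.dvd_of_dvd_pow h))
    · exact h5 ((Nat.prime_dvd_prime_iff_eq hr (by norm_num)).1 h)
  obtain ⟨c, hc1, hc2⟩ := Nat.chineseRemainder hco 3 (r - 1)
  have hcop : c.Coprime (20 * r) := by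
    refine Nat.Coprime.mul_right ?_ ?_
    · rw [Nat.Coprime, Nat.ModEq.gcd_eq hc1]; rfl
    · rw [Nat.Coprime, Nat.ModEq.gcd_eq hc2]
      exact (Nat.coprime_self_sub_left (by have := hr.two_le; omega)).2 (Nat.coprime_one_left r)
  obtain ⟨n, -, hn, hmod⟩ := Nat.forall_exists_prime_gt_and_modEq 0 (q := 20 * r) (NeZero.ne _) hcop
  have h20 : n % 20 = 3 := (hmod.of_mul_right r).trans hc1
  have hrn : n ≡ r - 1 [MOD r] := (hmod.of_mul_left 20).trans hc2
  haveI : Fact n.Prime := ⟨hn⟩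
  refine ⟨n, hn, by omega, ?_, exists_rep h20⟩
  refine Nat.modEq_zero_iff_dvd.1 ((hrn.add_right 1).trans ?_)
  rw [Nat.sub_add_cancel hr.one_le]
  exact Nat.modEq_zero_iff_dvd.2 (dvd_refl r)

end Cfsg.Agent.Lib.DivRingSL25
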