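import Cfsg.Agent.Lib.DivRingSL25.Cyclotomic
import Cfsg.Agent.Lib.DivRingSL25.TwoSquares

/-!
In a division ring of characteristic zero, nothing of prime order `r ≠ 2, 5` commutes with a
dicyclic group of order 20.
-/

set_option autoImplicit false

namespace Cfsg.Agent.Lib.DivRingSL25

open Polynomial

universe u

variable {D : Type u} [DivisionRing D] [CharZero D]

theorem dicyclic_centralizer_false {w j c : D} (hw : w ^ 5 = 1) (hw1 : w ≠ 1) (hj : j * j = -1)
    (hjw : j * w = w ^ 4 * j) (hcw : Commute c w) (hcj : Commute c j) {r : ℕ} (hr : r.Prime)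
    (hr2 : r ≠ 2) (hr5 : r ≠ 5) (hc : c ^ r = 1) (hc1 : c ≠ 1) : False := by
  classical
  obtain ⟨n, hn, hn4, hrn, a, b, hab⟩ := exists_good_prime hr hr2 hr5
  haveI : Fact n.Prime := ⟨hn⟩
  obtain ⟨A, B, hAB⟩ := exists_gauss_split n hn4
  -- the real quadratic element and the anticommuting element
  set s : D := w + w ^ 4 with hs
  set v : D := w - w ^ 4 with hv
  have hsum : 1 + w + w ^ 2 + w ^ 3 + w ^ 4 = 0 := by
    have h : (w - 1) * (1 + w + w ^ 2 + w ^ 3 + w ^ 4) = 0 := by
      have : (w - 1) * (1 + w + w ^ 2 + w ^ 3 + w ^ 4) = w ^ 5 - 1 := by noncomm_ring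
      rw [this, hw, sub_self]
    exact (mul_eq_zero.1 h).resolve_left (sub_ne_zero.2 hw1)
  have hjw4 : j * w ^ 4 = w * j := by
    have h2 : j * w ^ 4 = (w ^ 4) ^ 4 * j :=
      (SemiconjBy.pow_right (hjw : SemiconjBy j w (w ^ 4)) 4).eq
    rw [h2, ← pow_mul, show 4 * 4 = 5 * 3 + 1 by norm_num, pow_succ, pow_mul, hw, one_pow, one_mul]
  have hsj : Commute s j := by
    show s * j = j * s
    rw [hs, mul_add, add_mul, hjw, hjw4, add_comm]
  have hvj : j * v = -(v * j) := by
    rw [hv, mul_sub, sub_mul, hjw, hjw4, neg_sub]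
  have hsw : Commute s w := (Commute.refl w).add_left (Commute.pow_self w 4)
  have hsv : Commute s v := hsw.sub_right (hsw.pow_right 4)
  have hcs : Commute c s := hcw.add_right (hcw.pow_right 4)
  have hcv : Commute c v := hcw.sub_right (hcw.pow_right 4)
  have hw8 : w ^ 8 = w ^ 3 := by rw [show 8 = 5 + 3 from rfl, pow_add, hw, one_mul]
  have hs2 : s * s + s = 1 := by
    have : s * s + s = (1 + w + w ^ 2 + w ^ 3 + w ^ 4) + (w ^ 8 - w ^ 3) + 2 * (w ^ 5) - 1 := by
      rw [hs]; noncomm_ring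
    rw [this, hsum, hw, hw8]; noncomm_ring
  have hv2 : v * v = -(3 + s) := by
    have : v * v = (1 + w + w ^ 2 + w ^ 3 + w ^ 4) + (w ^ 8 - w ^ 3) - 2 * (w ^ 5) - 1
        - (w + w ^ 4) := by
      rw [hv]; noncomm_ring
    rw [this, hsum, hw, hw8, hs, show (3 : D) = 1 + 1 + 1 by norm_num]; noncomm_ring
  -- the commutative coefficient ring
  have hgen : ∀ x ∈ ({s, c} : Set D), ∀ y ∈ ({s, c} : Set D), x * y = y * x := by
    rintro x (rfl | rfl) y (rfl | rfl)
    · rfl
    · exact hcs.symm.eq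
    · exact hcs.eq
    · rfl
  let R := Algebra.adjoin ℚ ({s, c} : Set D)
  letI : CommRing R := Algebra.adjoinCommRingOfComm ℚ hgen
  have hRj : ∀ x : R, Commute (x : D) j := fun x =>
    have h : R ≤ Subalgebra.centralizer ℚ ({j} : Set D) := Algebra.adjoin_le (by
      intro y hy
      refine (Subalgebra.mem_centralizer_iff ℚ).2 fun g hg => ?_
      rw [Set.mem_singleton_iff.1 hg]
      rcases hy with h | h <;> rw [h]
      exacts [hsj.eq.symm, hcj.eq.symm])
    (Subalgebra.mem_centralizer_iff ℚ |>.1 (h x.2) j rfl).symm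
  have hRv : ∀ x : R, Commute (x : D) v := fun x =>
    have h : R ≤ Subalgebra.centralizer ℚ ({v} : Set D) := Algebra.adjoin_le (by
      intro y hy
      refine (Subalgebra.mem_centralizer_iff ℚ).2 fun g hg => ?_
      rw [Set.mem_singleton_iff.1 hg]
      rcases hy with h | h <;> rw [h]
      exacts [hsv.eq.symm, hcv.eq.symm])
    (Subalgebra.mem_centralizer_iff ℚ |>.1 (h x.2) v rfl).symm
  let S : R := ⟨s, Algebra.subset_adjoin (by simp)⟩
  let Z : R := ⟨c, Algebra.subset_adjoin (by simp)⟩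
  have hS : S * S + S = 1 := Subtype.ext hs2
  have hZ : Z ^ r = 1 := Subtype.ext (by simpa [Z] using hc)
  have hZ1 : Z - 1 ≠ 0 := fun h => hc1 (by
    have := congrArg Subtype.val h
    simpa [Z, sub_eq_zero] using this)
  -- `-1 = α² + n β²`
  obtain ⟨k, hk⟩ : ∃ k, r = 2 * k + 1 := hr.odd_of_ne_two hr2
  obtain ⟨m, hm⟩ := hrn
  have hZn1 : ∑ i ∈ Finset.range (n + 1), Z ^ i = 0 := by
    have h := mul_geom_sum Z (n + 1)
    rw [hm, pow_mul, hZ, one_pow, sub_self, ← hm] at h
    have h' := congrArg Subtype.val h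
    push_cast at h'
    refine Subtype.ext ?_
    push_cast
    refine (mul_eq_zero.1 h').resolve_left fun h0 => hc1 ?_
    simpa [Z, sub_eq_zero] using h0
  set α : R := aeval Z A * Z ^ (k + 1) with hα
  set β : R := aeval Z B * Z ^ (k + 1) with hβ
  have hneg : α ^ 2 + (n : R) * β ^ 2 + 1 = 0 := by
    have h1 : aeval Z A ^ 2 + (n : R) * aeval Z B ^ 2 = ∑ i ∈ Finset.range n, Z ^ i := by
      have := congrArg (aeval Z) hAB
      simpa [map_natCast] using this
    rw [Finset.sum_range_succ] at hZn1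
    have h2 : (∑ i ∈ Finset.range n, Z ^ i) * Z ^ (2 * (k + 1)) = -1 := by
      rw [eq_neg_of_add_eq_zero_left hZn1, neg_mul, ← pow_add]
      have : n + 2 * (k + 1) = r * (m + 1) := by rw [mul_add r m, mul_one, ← hm, hk]; omega
      rw [this, pow_mul, hZ, one_pow]
    rw [hα, hβ]
    linear_combination Z ^ (2 * (k + 1)) * h1 + h2
  -- `η`
  set x : R := (a : R) + (b : R) * (2 * S + 1) with hx
  set y : R := (a : R) - (b : R) * (2 * S + 1) with hy
  set p : R := x * (S + 1) + y with hp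
  set q : R := y * (S + 1) - x with hq
  set μ : R := 2 * (3 + S) with hμ
  set η : D := ((p : D) + (q : D) * j) * v with hη
  have habR : (a : R) ^ 2 + 5 * (b : R) ^ 2 = 2 * (n : R) := by exact_mod_cast congrArg (Int.cast : ℤ → R) hab
  have hnorm : (p ^ 2 + q ^ 2) * (3 + S) = (n : R) * μ ^ 2 := by
    rw [hp, hq, hμ, hx, hy]
    linear_combination (2 * ((3 + S) * ((S + 1) ^ 2 + 1))) * habR
      + (8 * (b : R) ^ 2 * ((3 + S) * ((S + 1) ^ 2 + 1)) + 4 * (n : R) * (3 + S)) * hS
  have hμ0 : (μ : D) ≠ 0 := by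
    intro h
    have h5 : μ * (2 - S) = 10 := by rw [hμ]; linear_combination (-2) * hS
    have h5' := congrArg R.val h5
    rw [map_mul, map_ofNat, show R.val μ = 0 from h, zero_mul] at h5'
    norm_num at h5'
  have hv0 : v ≠ 0 := by
    intro h
    rw [hv, sub_eq_zero] at h
    have h2 : w ^ 3 = 1 := by
      have hw0 : w ≠ 0 := fun h0 => by rw [h0, zero_pow (by norm_num)] at hw; exact zero_ne_one hw
      have h4 : w ^ 3 * w = 1 * w := by rw [← pow_succ, one_mul]; exact h.symm
      exact mul_right_cancel₀ hw0 h4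
    refine hw1 ?_
    have h6 : w ^ 5 * w = (w ^ 3) ^ 2 := by rw [← pow_succ, ← pow_mul]
    rwa [hw, one_mul, h2, one_pow] at h6
  have hηj : η * j = -(j * η) := by
    have h1 : ((p : D) + (q : D) * j) * j = j * ((p : D) + (q : D) * j) := by
      rw [add_mul, mul_add, (hRj p).eq, mul_assoc, ← mul_assoc j (q : D), ← (hRj q).eq, mul_assoc]
    rw [hη, mul_assoc, show v * j = -(j * v) by rw [hvj, neg_neg],
      mul_neg, ← mul_assoc, h1, mul_assoc]
  have hη2 : η * η = -(((n : R) * μ ^ 2 : R) : D) := by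
    have h1 : v * ((p : D) + (q : D) * j) = ((p : D) - (q : D) * j) * v := by
      rw [mul_add, ← (hRv p).eq, ← mul_assoc, ← (hRv q).eq, mul_assoc,
        show v * j = -(j * v) by rw [hvj, neg_neg], mul_neg, sub_mul, sub_eq_add_neg, mul_assoc]
    have h2 : ((p : D) + (q : D) * j) * ((p : D) - (q : D) * j) = ((p ^ 2 + q ^ 2 : R) : D) := by
      have c1 : (q : D) * j * p = p * ((q : D) * j) := by
        rw [mul_assoc, ← (hRj p).eq, ← mul_assoc, ← mul_assoc]
        congr 1
        exact congrArg Subtype.val (mul_comm q p)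
      have c2 : (q : D) * j * ((q : D) * j) = -((q : D) * q) := by
        rw [mul_assoc, ← mul_assoc j (q : D), ← (hRj q).eq, mul_assoc, hj, mul_neg, mul_one, mul_neg]
      rw [add_mul, mul_sub, mul_sub, c1, c2]
      push_cast
      noncomm_ring
    rw [hη, mul_assoc, ← mul_assoc v, h1, mul_assoc, ← mul_assoc, h2, hv2, mul_neg]
    rw [← hnorm]
    push_cast
    rfl
  -- the zero divisors
  set X : D := (β : D) * η + (μ : D) * j with hX
  set a' : D := ((α * μ : R) : D) with ha'
  have hηR : ∀ z : R, Commute (z : D) η := fun z => by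
    rw [hη]
    exact ((Commute.add_right (congrArg Subtype.val (mul_comm z p))
      ((show Commute (z : D) q from congrArg Subtype.val (mul_comm z q)).mul_right (hRj z)))).mul_right
      (hRv z)
  clear_value η
  have hRR : ∀ z z' : R, Commute (z : D) z' := fun z z' => congrArg Subtype.val (mul_comm z z')
  have hX2 : X * X = -((μ ^ 2 * ((n : R) * β ^ 2 + 1) : R) : D) := by
    have c1 : (β : D) * η * ((β : D) * η) = -((β * β * ((n : R) * μ ^ 2) : R) : D) := by
      rw [mul_assoc, ← mul_assoc η, ← (hηR β).eq, mul_assoc, hη2]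
      push_cast; noncomm_ring
    have c2 : (μ : D) * j * ((μ : D) * j) = -((μ * μ : R) : D) := by
      rw [mul_assoc, ← mul_assoc j, ← (hRj μ).eq, mul_assoc, hj]
      push_cast; noncomm_ring
    have c3 : (β : D) * η * ((μ : D) * j) + (μ : D) * j * ((β : D) * η) = 0 := by
      rw [mul_assoc, ← mul_assoc η, ← (hηR μ).eq, mul_assoc, hηj, mul_assoc (μ : D) j,
        ← mul_assoc j, ← (hRj β).eq, mul_assoc, ← mul_assoc (μ : D) (β : D), (hRR μ β).eq,
        mul_assoc, mul_neg, mul_neg, neg_add_cancel]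
    calc X * X = (β : D) * η * ((β : D) * η) + (μ : D) * j * ((μ : D) * j)
          + ((β : D) * η * ((μ : D) * j) + (μ : D) * j * ((β : D) * η)) := by
            rw [hX]; noncomm_ring
      _ = _ := by
        rw [c1, c2, c3, add_zero, ← neg_add]
        congr 1
        rw [← AddMemClass.coe_add]
        congr 1
        ring
  have haX : Commute a' X := by
    rw [ha', hX]
    exact ((hRR _ β).mul_right (hηR _)).add_right ((hRR _ μ).mul_right (hRj _))
  have hprod : (a' + X) * (a' - X) = 0 := by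
    have : (a' + X) * (a' - X) = a' * a' - X * X := by
      rw [add_mul, mul_sub, mul_sub, haX.eq]; abel
    rw [this, hX2, ha', sub_neg_eq_add, ← MulMemClass.coe_mul, ← AddMemClass.coe_add,
      show α * μ * (α * μ) + μ ^ 2 * ((n : R) * β ^ 2 + 1) = μ ^ 2 * (α ^ 2 + (n : R) * β ^ 2 + 1)
        by ring, hneg, mul_zero, ZeroMemClass.coe_zero]
  obtain ⟨z, hz⟩ : ∃ z : R, X = z := by
    rcases mul_eq_zero.1 hprod with h | h
    · exact ⟨-(α * μ), by rw [NegMemClass.coe_neg]; exact eq_neg_of_add_eq_zero_right h⟩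
    · exact ⟨α * μ, (sub_eq_zero.1 h).symm⟩
  have hbη : (β : D) * η = 0 := by
    have h1 : X * j = j * X := by rw [hz]; exact (hRj z).eq
    rw [hX, add_mul, mul_add, ← mul_assoc j (μ : D), ← (hRj μ).eq, ← mul_assoc j (β : D),
      ← (hRj β).eq, add_left_inj, mul_assoc, mul_assoc (β : D) j, hηj, mul_neg, neg_eq_iff_add_eq_zero,
      ← two_mul] at h1
    have h2 := (mul_eq_zero.1 h1).resolve_left two_ne_zero
    rcases mul_eq_zero.1 h2 with h | h
    · rw [h, zero_mul]
    · have hj0 : j ≠ 0 := fun h0 => by rw [h0, zero_mul] at hj; exact one_ne_zero (neg_eq_zero.1 hj.symm)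
      rw [(mul_eq_zero.1 h).resolve_left hj0, mul_zero]
  have h3 : Commute ((μ : D) * j) v := by
    have : (μ : D) * j = (z : D) := by rw [← hz, hX, hbη, zero_add]
    rw [this]; exact hRv z
  have h4 := h3.eq
  rw [mul_assoc, hvj, ← mul_assoc v, ← (hRv μ).eq, mul_assoc] at h4
  have h5 := mul_left_cancel₀ hμ0 h4
  rw [neg_eq_iff_add_eq_zero, ← two_mul] at h5
  rcases mul_eq_zero.1 ((mul_eq_zero.1 h5).resolve_left two_ne_zero) with h | h
  · exact hv0 h
  · rw [h, zero_mul] at hj; exact one_ne_zero (neg_eq_zero.1 hj.symm)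

end Cfsg.Agent.Lib.DivRingSL25
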