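import Cfsg.Agent.Lib.DivRingSL25.Data
import Cfsg.Agent.Lib.DivRingSL25.ZeroDivisor

/-!
Nothing outside a copy of `SL(2,5)` centralises it.
-/

set_option autoImplicit false
set_option linter.style.haveILetI false

namespace Cfsg.Agent.Lib.DivRingSL25

universe u v

local notation "S25" => Matrix.SpecialLinearGroup (Fin 2) (ZMod 5)

variable {D : Type u} [DivisionRing D] {G : Type v} [Group G] {φ : G →* D}

namespace Embedded

variable {f : S25 →* G} (E : Embedded φ f)
include E

theorem not_orderOf_four {c : G} (hc : ∀ x, Commute c (f x)) : orderOf c ≠ 4 := by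
  obtain ⟨hAA, hZZ, hZ1, -, -, hT5, -, -, -, -, -⟩ := basic_facts
  intro h4
  have hcc : c * c = f gZ := by
    have h1 : (c * c) * (c * c) = 1 := by
      rw [show (c * c) * (c * c) = c ^ 4 by simp [pow_succ, mul_assoc], ← h4, pow_orderOf_eq_one]
    refine (E.eq_one_or _ h1).resolve_left fun h2 => ?_
    have : orderOf c ∣ 2 := orderOf_dvd_of_pow_eq_one (by rw [pow_two]; exact h2)
    rw [h4] at this; norm_num at this
  have key : ∀ y : S25, y * y = gZ → c = f y ∨ c = f (gZ * y) := fun y hy => by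
    rw [map_mul]
    exact eq_or_eq_of_commute_sq E.inj E.map_gZ hcc (by rw [← map_mul, hy]) (hc y)
  obtain ⟨y, hy⟩ : ∃ y, c = f y := (key gA hAA).elim (fun h => ⟨_, h⟩) (fun h => ⟨_, h⟩)
  obtain ⟨k, hk⟩ := centralizer_gT y (E.f_inj (by rw [map_mul, map_mul, ← hy]; exact (hc gT).eq))
  have hzc : Commute gZ (gT ^ (k : ℕ)) := commute_gZ _
  have h20 : c ^ 10 = 1 := by
    rw [hy, ← map_pow, show y ^ 10 = 1 from ?_, map_one]
    rcases hk with rfl | rfl
    · rw [← pow_mul, show (k : ℕ) * 10 = 5 * (2 * k) by ring, pow_mul, hT5, one_pow]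
    · rw [hzc.mul_pow, ← pow_mul, show (k : ℕ) * 10 = 5 * (2 * k) by ring, pow_mul gT, hT5,
        one_pow, mul_one, show 10 = 2 * 5 from rfl, pow_mul, pow_two, hZZ, one_pow]
  have := orderOf_dvd_of_pow_eq_one h20
  rw [h4] at this; norm_num at this

theorem sq_of_commute {y : S25} (hy : ∀ x, Commute (f y) (f x)) : f y * f y = 1 := by
  rw [← map_mul, show y * y = 1 from ?_, map_one]
  exact sq_of_commute_gens y (E.f_inj (by rw [map_mul, map_mul]; exact (hy gA).eq))
    (E.f_inj (by rw [map_mul, map_mul]; exact (hy gT).eq))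

theorem prime_orderOf [CharZero D] {c : G} (hc : ∀ x, Commute c (f x)) {r : ℕ} (hr : r.Prime)
    (hord : orderOf c = r) : r = 2 := by
  by_contra hr2
  have hcr : φ c ^ r = 1 := by rw [← map_pow, ← hord, pow_orderOf_eq_one, map_one]
  have hc1 : φ c ≠ 1 := fun h => by
    have : c = 1 := E.inj (h.trans (map_one φ).symm)
    rw [this, orderOf_one] at hord; exact hr.one_lt.ne hord
  have hcw : Commute (φ c) (φ (f gT)) := (hc gT).map φ
  have hcj : Commute (φ c) (φ (f gJ)) := (hc gJ).map φ
  by_cases hr5 : r = 5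
  · subst hr5
    haveI : CharZero D := inferInstance
    have hgen : ∀ x ∈ ({φ c, φ (f gT)} : Set D), ∀ y ∈ ({φ c, φ (f gT)} : Set D), x * y = y * x := by
      rintro x (rfl | rfl) y (rfl | rfl)
      · rfl
      · exact hcw.eq
      · exact hcw.eq.symm
      · rfl
    let R := Algebra.adjoin ℚ ({φ c, φ (f gT)} : Set D)
    letI : CommRing R := Algebra.adjoinCommRingOfComm ℚ hgen
    haveI : IsDomain R := inferInstance
    let W : R := ⟨φ (f gT), Algebra.subset_adjoin (by simp)⟩
    have hW : IsPrimitiveRoot W 5 := by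
      haveI : Fact (Nat.Prime 5) := ⟨hr⟩
      have h := orderOf_eq_prime (x := W) (p := 5) (Subtype.ext (by simpa [W] using E.w_pow))
        (fun h => E.w_ne (congrArg Subtype.val h))
      rw [← h]; exact IsPrimitiveRoot.orderOf W
    obtain ⟨i, -, hi⟩ := hW.eq_pow_of_pow_eq_one
      (ξ := (⟨φ c, Algebra.subset_adjoin (by simp)⟩ : R)) (Subtype.ext (by simpa using hcr))
    have hi' : c = f (gT ^ i) := E.inj (by
      have := congrArg Subtype.val hi
      simp only [SubmonoidClass.coe_pow] at this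
      rw [map_pow, map_pow]; exact this.symm)
    have hsq : c * c = 1 := hi' ▸ E.sq_of_commute (hi' ▸ hc)
    have : orderOf c ∣ 2 := orderOf_dvd_of_pow_eq_one (by rw [pow_two]; exact hsq)
    rw [hord] at this
    norm_num at this
  · exact dicyclic_centralizer_false E.w_pow E.w_ne E.j_sq E.j_w hcw hcj hr hr2 hr5 hcr hc1

theorem centralizer_le [CharZero D] [Finite G] :
    Subgroup.centralizer (f.range : Set G) ≤ f.range := by
  intro c hc
  have hcm : ∀ m, ∀ x, Commute (c ^ m) (f x) := fun m x =>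
    Commute.pow_left (Subgroup.mem_centralizer_iff.1 hc (f x) (E.f_mem x)).symm m
  have hpos := orderOf_pos c
  have h : c * c = 1 := by
    by_contra hcc
    have hne : ¬ orderOf c ∣ 2 := fun h => hcc (by rw [← pow_two]; exact orderOf_dvd_iff_pow_eq_one.1 h)
    obtain ⟨d, hd, hdc⟩ : ∃ d, (d = 4 ∨ (d.Prime ∧ d ≠ 2)) ∧ d ∣ orderOf c := by
      by_cases h4 : 4 ∣ orderOf c
      · exact ⟨4, Or.inl rfl, h4⟩
      by_contra hcon
      push Not at hcon
      refine hne ?_
      obtain ⟨k, hk⟩ : ∃ k, orderOf c = 2 ^ k := ⟨_, Nat.eq_prime_pow_of_unique_prime_dvd hpos.ne'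
        fun {q} hq hqd => by
          by_contra hq2
          exact hcon q (Or.inr ⟨hq, hq2⟩) hqd⟩
      have : k ≤ 1 := by
        by_contra hk1
        exact h4 (hk ▸ (show 4 = 2 ^ 2 from rfl) ▸ pow_dvd_pow 2 (by omega))
      rw [hk]
      simpa using pow_dvd_pow 2 this
    obtain ⟨q, hq⟩ := hdc
    have hq0 : q ≠ 0 := fun h => by rw [h, mul_zero] at hq; omega
    have hord : orderOf (c ^ q) = d := by
      rw [orderOf_pow' c hq0, hq, Nat.gcd_mul_left_left, Nat.mul_div_cancel _ (Nat.pos_of_ne_zero hq0)]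
    rcases hd with rfl | ⟨hd, hd2⟩
    · exact E.not_orderOf_four (hcm q) hord
    · exact hd2 (E.prime_orderOf (hcm q) hd hord)
  rcases E.eq_one_or c h with rfl | rfl
  · exact one_mem _
  · exact E.f_mem _

end Embedded

end Cfsg.Agent.Lib.DivRingSL25
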