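import Mathlib

/-!
Gauss's identity: for a prime `n ≡ 3 (mod 4)`, the sum `1 + X + ⋯ + X^(n-1)` is `A² + n B²`
over the rationals.
-/

set_option autoImplicit false

namespace Cfsg.Agent.Lib.DivRingSL25

open Polynomial

variable {n : ℕ} [hn : Fact n.Prime] {K : Type*} [Field K] [CharZero K] {ζ : K}

theorem gauss_split_field [Algebra ℚ K] [IsCyclotomicExtension {n} ℚ K] (hζ : IsPrimitiveRoot ζ n)
    (h4 : n % 4 = 3) :
    ∃ A B : ℚ[X], A ^ 2 + C (n : ℚ) * B ^ 2 = ∑ i ∈ Finset.range n, X ^ i := by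
  classical
  haveI : NeZero n := ⟨hn.out.ne_zero⟩
  haveI : FiniteDimensional ℚ K := IsCyclotomicExtension.finiteDimensional {n} ℚ K
  haveI : IsGalois ℚ K := IsCyclotomicExtension.isGalois {n} ℚ K
  have hn2 : ringChar (ZMod n) ≠ 2 := by rw [ZMod.ringChar_zmod_n]; omega
  let e : ZMod n → K := fun x => ζ ^ x.val
  have einj : Function.Injective e := fun x y h =>
    ZMod.val_injective n (hζ.pow_inj (ZMod.val_lt x) (ZMod.val_lt y) h)
  let ψ : AddChar (ZMod n) K := AddChar.zmodChar n hζ.pow_eq_one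
  have hψ : ψ.IsPrimitive := AddChar.zmodChar_primitive_of_primitive_root n hζ
  have hψap : ∀ x : ZMod n, ψ x = e x := fun x => AddChar.zmodChar_apply hζ.pow_eq_one x
  let χ : MulChar (ZMod n) K := (quadraticChar (ZMod n)).ringHomComp (Int.castRingHom K)
  have hχap : ∀ x, χ x = ((quadraticChar (ZMod n) x : ℤ) : K) := fun x => rfl
  have hχq : χ.IsQuadratic := (quadraticChar_isQuadratic (ZMod n)).comp _
  have hχne : χ ≠ 1 := by
    obtain ⟨a, ha⟩ := quadraticChar_exists_neg_one hn2
    intro h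
    have h0 : a ≠ 0 := by rintro rfl; rw [quadraticChar_zero] at ha; norm_num at ha
    have h1 := congrArg (fun f : MulChar (ZMod n) K => f a) h
    simp only [hχap, ha, MulChar.one_apply h0.isUnit] at h1
    norm_num at h1
  have hnsq : ¬ IsSquare (-1 : ZMod n) := by rw [ZMod.exists_sq_eq_neg_one_iff]; omega
  have hneg1 : χ (-1) = -1 := by
    rw [hχap, (quadraticChar_neg_one_iff_not_isSquare).2 hnsq]; norm_num
  set g : K := gaussSum χ ψ with hg
  have hg2 : g ^ 2 = -(n : K) := by
    rw [hg, gaussSum_sq hχne hχq hψ, hneg1, ZMod.card]; ring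
  have hn0 : (n : K) ≠ 0 := by exact_mod_cast hn.out.ne_zero
  let S : Finset (ZMod n) := Finset.univ.filter fun x => quadraticChar (ZMod n) x = 1
  let N : Finset (ZMod n) := Finset.univ.filter fun x => quadraticChar (ZMod n) x = -1
  let P : K[X] := ∏ x ∈ S, (X - C (e x))
  let P' : K[X] := ∏ x ∈ N, (X - C (e x))
  have hSN : Disjoint S N := Finset.disjoint_filter.2 fun x _ h1 h2 => by
    rw [h1] at h2; norm_num at h2
  have hunion : S ∪ N = Finset.univ.erase 0 := by
    ext x
    rcases eq_or_ne x 0 with rfl | hx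
    · simp [S, N, quadraticChar_zero]
    · simpa [S, N, hx] using quadraticChar_dichotomy hx
  have hPP : P * P' = ∑ i ∈ Finset.range n, X ^ i := by
    rw [← cyclotomic_prime K n, cyclotomic_eq_prod_X_sub_primitiveRoots hζ,
      ← Finset.prod_union hSN, hunion]
    have himg : primitiveRoots n K = (Finset.univ.erase (0 : ZMod n)).image e := by
      refine (Finset.eq_of_subset_of_card_le ?_ ?_).symm
      · intro z hz
        obtain ⟨x, hx, rfl⟩ := Finset.mem_image.1 hz
        rw [mem_primitiveRoots hn.out.pos]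
        refine hζ.pow_of_coprime _ (Nat.Coprime.symm ((hn.out.coprime_iff_not_dvd).2 fun hd => ?_))
        exact (Finset.mem_erase.1 hx).1 ((ZMod.val_eq_zero x).1
          (Nat.eq_zero_of_dvd_of_lt hd (ZMod.val_lt x)))
      · rw [hζ.card_primitiveRoots, Nat.totient_prime hn.out,
          Finset.card_image_of_injective _ einj, Finset.card_erase_of_mem (Finset.mem_univ _),
          Finset.card_univ, ZMod.card]
    rw [himg, Finset.prod_image fun x _ y _ h => einj h]
  have hσ : ∀ σ : K ≃ₐ[ℚ] K, ∃ t : ZMod n, t ≠ 0 ∧ (∀ x, σ (e x) = e (t * x)) ∧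
      σ g = χ t * g := by
    intro σ
    let u : (ZMod n)ˣ := hζ.autToPow ℚ σ
    refine ⟨u, u.ne_zero, ?_⟩
    have hσe : ∀ x, σ (e x) = e ((u : ZMod n) * x) := fun x => by
      show σ (ζ ^ x.val) = ζ ^ ((u : ZMod n) * x).val
      rw [map_pow, ← hζ.autToPow_spec ℚ σ, ← pow_mul, ZMod.val_mul, ← pow_eq_pow_mod _
        hζ.pow_eq_one]
    refine ⟨hσe, ?_⟩
    have h1 : σ g = gaussSum χ (AddChar.mulShift ψ (u : ZMod n)) := by
      rw [hg, gaussSum, gaussSum, map_sum]
      refine Finset.sum_congr rfl fun x _ => ?_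
      rw [map_mul, hχap, map_intCast, AddChar.mulShift_apply, hψap, hψap, hσe]
    have h2 := gaussSum_mulShift χ ψ u
    have h3 : χ (u : ZMod n) * χ (u : ZMod n) = 1 := by
      rw [← map_mul, hχap, ← sq, quadraticChar_sq_one' u.ne_zero, Int.cast_one]
    rw [h1, ← one_mul (gaussSum χ (AddChar.mulShift ψ _)), ← h3, mul_assoc, h2]
  have hfix : ∀ σ : K ≃ₐ[ℚ] K, (P + P').map (σ : K →+* K) = P + P' ∧
      (C g * (P - P')).map (σ : K →+* K) = C g * (P - P') := by
    intro σ
    obtain ⟨t, ht, hte, htg⟩ := hσ σ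
    have hmap : ∀ T : Finset (ZMod n), (∏ x ∈ T, (X - C (e x))).map (σ : K →+* K) =
        ∏ x ∈ T.image (t * ·), (X - C (e x)) := by
      intro T
      rw [Finset.prod_image fun x _ y _ h => mul_left_cancel₀ ht h, Polynomial.map_prod]
      refine Finset.prod_congr rfl fun x _ => ?_
      rw [Polynomial.map_sub, map_X, map_C, RingHom.coe_coe, hte]
    have himg : ∀ c : ℤ, (Finset.univ.filter fun x => quadraticChar (ZMod n) x = c).image (t * ·) =
        Finset.univ.filter fun x => quadraticChar (ZMod n) x = quadraticChar (ZMod n) t * c := by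
      intro c
      ext x
      simp only [Finset.mem_image, Finset.mem_filter, Finset.mem_univ, true_and]
      constructor
      · rintro ⟨y, hy, rfl⟩; rw [map_mul, hy]
      · intro hx
        refine ⟨t⁻¹ * x, ?_, by rw [← mul_assoc, mul_inv_cancel₀ ht, one_mul]⟩
        have h2 : quadraticChar (ZMod n) t⁻¹ * quadraticChar (ZMod n) t = 1 := by
          rw [← map_mul, inv_mul_cancel₀ ht, map_one]
        rw [map_mul, hx, ← mul_assoc, h2, one_mul]
    rcases quadraticChar_dichotomy ht with h | h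
    · have hP : P.map (σ : K →+* K) = P := by rw [hmap, himg 1, h, one_mul]
      have hP' : P'.map (σ : K →+* K) = P' := by rw [hmap, himg (-1), h, one_mul]
      rw [Polynomial.map_add, Polynomial.map_mul, Polynomial.map_sub, map_C, RingHom.coe_coe,
        hP, hP', htg, hχap, h, Int.cast_one, one_mul]
      exact ⟨rfl, rfl⟩
    · have hP : P.map (σ : K →+* K) = P' := by rw [hmap, himg 1, h, mul_one]
      have hP' : P'.map (σ : K →+* K) = P := by
        rw [hmap, himg (-1), h, neg_mul, one_mul, neg_neg]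
      rw [Polynomial.map_add, Polynomial.map_mul, Polynomial.map_sub, map_C, RingHom.coe_coe,
        hP, hP', htg, hχap, h, Int.cast_neg, Int.cast_one, map_mul, map_neg, map_one]
      exact ⟨add_comm _ _, by ring⟩
  have hlift : ∀ Q : K[X], (∀ σ : K ≃ₐ[ℚ] K, Q.map (σ : K →+* K) = Q) →
      ∃ R : ℚ[X], R.map (algebraMap ℚ K) = Q := by
    intro Q hQ
    rw [← Polynomial.mem_lifts, Polynomial.lifts_iff_coeff_lifts]
    intro i
    refine (IsGalois.mem_range_algebraMap_iff_fixed (F := ℚ) _).2 fun σ => ?_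
    have := congrArg (fun q => coeff q i) (hQ σ)
    simpa [coeff_map] using this
  obtain ⟨A₁, hA₁⟩ := hlift _ fun σ => (hfix σ).1
  obtain ⟨B₁, hB₁⟩ := hlift _ fun σ => (hfix σ).2
  refine ⟨C (1 / 2) * A₁, C (1 / (2 * (n : ℚ))) * B₁,
    Polynomial.map_injective (algebraMap ℚ K) (algebraMap ℚ K).injective ?_⟩
  simp only [Polynomial.map_add, Polynomial.map_pow, Polynomial.map_mul, map_C, hA₁, hB₁,
    Polynomial.map_sum, map_X, ← hPP]
  simp only [map_div₀, map_one, map_mul, map_ofNat, map_natCast]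
  have e1 : (C (n : K)) * C (1 / (2 * (n : K))) ^ 2 * C g ^ 2 = -(C (1 / 2 : K)) ^ 2 := by
    rw [← map_pow, ← map_pow, ← map_pow, ← map_mul, ← map_mul, ← map_neg, hg2]
    congr 1
    field_simp
  calc (C (1 / 2 : K) * (P + P')) ^ 2 + C (n : K) * (C (1 / (2 * (n : K))) * (C g * (P - P'))) ^ 2
      = C (1 / 2 : K) ^ 2 * (P + P') ^ 2
        + (C (n : K) * C (1 / (2 * (n : K))) ^ 2 * C g ^ 2) * (P - P') ^ 2 := by ring
    _ = C (1 / 2 : K) ^ 2 * (4 * (P * P')) := by rw [e1]; ring
    _ = P * P' := by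
      rw [← mul_assoc, ← map_pow, ← map_ofNat C 4, ← map_mul]
      norm_num

theorem exists_gauss_split (n : ℕ) [Fact n.Prime] (h4 : n % 4 = 3) :
    ∃ A B : ℚ[X], A ^ 2 + C (n : ℚ) * B ^ 2 = ∑ i ∈ Finset.range n, X ^ i := by
  haveI : NeZero n := ⟨(Fact.out : n.Prime).ne_zero⟩
  letI := CyclotomicField.algebra n ℚ
  haveI h : IsCyclotomicExtension {n} ℚ (CyclotomicField n ℚ) :=
    CyclotomicField.isCyclotomicExtension n ℚ
  exact gauss_split_field (IsCyclotomicExtension.zeta_spec n ℚ (CyclotomicField n ℚ)) h4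

end Cfsg.Agent.Lib.DivRingSL25
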