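import Mathlib

/-!
Computations in `SL(2,5)`.
-/

set_option autoImplicit false

namespace Cfsg.Agent.Lib.DivRingSL25

local notation "S25" => Matrix.SpecialLinearGroup (Fin 2) (ZMod 5)

/-- An element of order four. -/
def gA : S25 := ⟨!![0, 4; 1, 0], by decide⟩

/-- An element of order five. -/
def gT : S25 := ⟨!![1, 1; 0, 1], by decide⟩

/-- The central involution. -/
def gZ : S25 := ⟨!![4, 0; 0, 4], by decide⟩

/-- A lower unitriangular element of order five. -/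
def gU : S25 := ⟨!![1, 0; 1, 1], by decide⟩

/-- An element of order four inverting `gT`. -/
def gJ : S25 := ⟨!![2, 0; 0, 3], by decide⟩

theorem basic_facts : gA * gA = gZ ∧ gZ * gZ = 1 ∧ gZ ≠ 1 ∧ (gA⁻¹ * gT) ^ 3 = 1 ∧ gA⁻¹ * gT ≠ 1 ∧
    gT ^ 5 = 1 ∧ gT ≠ 1 ∧ gJ * gJ = gZ ∧ gJ * gT = gT ^ 4 * gJ ∧
    gT ^ 3 * gA * gT ^ 2 * gA * gT ^ 3 * gA = gJ ∧ gA * gT ^ 4 * gA⁻¹ = gU := by
  decide +kernel

theorem bruhat : ∀ g : S25,
    g = gT ^ ((g.1 0 0 - 1) * g.1 1 0 ^ 3).val * gU ^ (g.1 1 0).val *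
      gT ^ ((g.1 1 1 - 1) * g.1 1 0 ^ 3).val ∨
    gA * g = gT ^ (((gA * g).1 0 0 - 1) * (gA * g).1 1 0 ^ 3).val * gU ^ ((gA * g).1 1 0).val *
      gT ^ (((gA * g).1 1 1 - 1) * (gA * g).1 1 0 ^ 3).val := by
  decide +kernel

theorem centralizer_gT : ∀ x : S25, x * gT = gT * x →
    ∃ k : Fin 5, x = gT ^ (k : ℕ) ∨ x = gZ * gT ^ (k : ℕ) := by
  decide +kernel

theorem conj_gT : ∀ x : S25, x ^ 5 = 1 → ∃ l : S25, ∃ k : Fin 5, l * x = gT ^ (k : ℕ) * l := by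
  decide +kernel

theorem image_word : ∀ a : S25, a * a = gZ → (a⁻¹ * gT) ^ 3 = 1 →
    ∃ k : Fin 5, gT ^ 3 * a * gT ^ 2 * a * gT ^ 3 * a = gT ^ (k : ℕ) * gJ := by
  decide +kernel

theorem gT_pow_four : gT ^ 4 = (gA⁻¹ * gT)⁻¹ * gA⁻¹ := by decide +kernel

theorem conj_gJ : gA * gJ * gA⁻¹ = gJ⁻¹ ∧ gA⁻¹ * gJ * (gA⁻¹)⁻¹ = gJ⁻¹ ∧ gJ ^ 4 = 1 ∧ gA * gJ ≠ gJ * gA := by
  decide +kernel

theorem normalizer_gJ : ∀ x : S25, (∃ k : Fin 4, x * gJ * x⁻¹ = gJ ^ (k : ℕ)) → x ^ 8 = 1 := by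
  decide +kernel

theorem commute_gZ : ∀ x : S25, gZ * x = x * gZ := by decide +kernel

theorem sq_of_commute_gens : ∀ y : S25, y * gA = gA * y → y * gT = gT * y → y * y = 1 := by
  decide +kernel

theorem two_pow_gT : ∀ t : Fin 5, gT ^ (t : ℕ) * gT ^ (t : ℕ) = 1 → t = 0 := by decide +kernel

theorem closure_gA_gT : Subgroup.closure ({gA, gT} : Set S25) = ⊤ := by
  refine eq_top_iff.2 fun g _ => ?_
  set H := Subgroup.closure ({gA, gT} : Set S25)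
  have hA : gA ∈ H := Subgroup.subset_closure (by simp)
  have hT : gT ∈ H := Subgroup.subset_closure (by simp)
  have hU : gU ∈ H := by
    rw [← basic_facts.2.2.2.2.2.2.2.2.2.2]
    exact mul_mem (mul_mem hA (pow_mem hT 4)) (inv_mem hA)
  rcases bruhat g with h | h
  · rw [h]; exact mul_mem (mul_mem (pow_mem hT _) (pow_mem hU _)) (pow_mem hT _)
  · have h' : gA * g ∈ H := by
      rw [h]; exact mul_mem (mul_mem (pow_mem hT _) (pow_mem hU _)) (pow_mem hT _)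
    simpa using mul_mem (inv_mem hA) h'

attribute [irreducible] gA gT gZ gU gJ

end Cfsg.Agent.Lib.DivRingSL25
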