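import Cfsg.Agent.Lib.DivRingSL25.Basic
import Cfsg.Agent.Lib.DivRingSL25.SL25Facts

/-!
A copy of `SL(2,5)` in the units of a division ring: the golden element is central for it.
-/

set_option autoImplicit false
set_option linter.style.haveILetI false

namespace Cfsg.Agent.Lib.DivRingSL25

universe u v

local notation "S25" => Matrix.SpecialLinearGroup (Fin 2) (ZMod 5)

variable {D : Type u} [DivisionRing D] {G : Type v} [Group G] {φ : G →* D}

/-- A normal copy of `SL(2,5)` in a group of units of a division ring. -/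
structure Embedded (φ : G →* D) (f : S25 →* G) : Prop where
  inj : Function.Injective φ
  f_inj : Function.Injective f
  normal : f.range.Normal

namespace Embedded

variable {f : S25 →* G} (E : Embedded φ f)
include E

theorem f_mem (x : S25) : f x ∈ f.range := ⟨x, rfl⟩

theorem conj_mem (g : G) (x : S25) : ∃ y, f y = g * f x * g⁻¹ :=
  E.normal.conj_mem _ (E.f_mem x) g

theorem map_gZ : φ (f gZ) = -1 :=
  map_eq_neg_one E.inj (by rw [← map_mul, basic_facts.2.1, map_one])
    fun h => basic_facts.2.2.1 (E.f_inj (h.trans (map_one f).symm))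

theorem eq_one_or (g : G) (hg : g * g = 1) : g = 1 ∨ g = f gZ := by
  by_cases h : g = 1
  · exact Or.inl h
  · exact Or.inr (E.inj ((map_eq_neg_one E.inj hg h).trans E.map_gZ.symm))

theorem w_pow : φ (f gT) ^ 5 = 1 := by
  rw [← map_pow, ← map_pow, basic_facts.2.2.2.2.2.1, map_one, map_one]

theorem w_ne : φ (f gT) ≠ 1 := fun h =>
  basic_facts.2.2.2.2.2.2.1 (E.f_inj (E.inj (by rw [map_one, map_one]; exact h)))

theorem j_sq : φ (f gJ) * φ (f gJ) = -1 := by
  rw [← map_mul, ← map_mul, basic_facts.2.2.2.2.2.2.2.1, E.map_gZ]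

theorem j_w : φ (f gJ) * φ (f gT) = φ (f gT) ^ 4 * φ (f gJ) := by
  simp only [← map_pow, ← map_mul, basic_facts.2.2.2.2.2.2.2.2.1]

theorem commute_golden : ∀ x, Commute (φ (f gT) + φ (f gT) ^ 4) (φ (f x)) := by
  obtain ⟨hAA, hZZ, hZ1, hB3, hB1, hT5, hT1, -, -, -, -⟩ := basic_facts
  set A : D := φ (f gA) with hA
  set B : D := φ (f (gA⁻¹ * gT)) with hB
  set w : D := φ (f gT) with hw
  have hAB : A * B = w := by rw [hA, hB, hw, ← map_mul, ← map_mul, mul_inv_cancel_left]
  have hA2 : A * A = -1 := by rw [hA, ← map_mul, ← map_mul, hAA, E.map_gZ]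
  have hB2 : B * B + B + 1 = 0 := by
    have h3 : B * B * B = 1 := by rw [hB, ← map_mul, ← map_mul, ← map_mul, ← map_mul, ← pow_two, ← pow_succ, hB3, map_one, map_one]
    have h : (B - 1) * (B * B + B + 1) = 0 := by
      have e : (B - 1) * (B * B + B + 1) = B * B * B - 1 := by noncomm_ring
      rw [e, h3, sub_self]
    refine (mul_eq_zero.1 h).resolve_left fun h1 => hB1 ?_
    exact E.f_inj (E.inj (by rw [map_one, map_one]; exact sub_eq_zero.1 h1))
  set s : D := w + w ^ 4 with hs
  have hw4 : w ^ 4 = B * A + A := by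
    have hBinv : -1 - B = φ (f (gA⁻¹ * gT)⁻¹) := by
      rw [map_inv f]
      refine (map_inv_eq _ ?_).symm
      show (-1 - B) * B = 1
      have : (-1 - B) * B = -(B * B + B + 1) + 1 := by noncomm_ring
      rw [this, hB2, neg_zero, zero_add]
    have hAinv : -A = φ (f gA⁻¹) := by
      rw [map_inv f]
      refine (map_inv_eq _ ?_).symm
      show -A * A = 1
      rw [neg_mul, hA2, neg_neg]
    calc w ^ 4 = φ (f ((gA⁻¹ * gT)⁻¹ * gA⁻¹)) := by
          rw [hw, ← map_pow, ← map_pow, gT_pow_four]
      _ = (-1 - B) * -A := by rw [map_mul, map_mul, hBinv, hAinv]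
      _ = B * A + A := by noncomm_ring
  have hsA : Commute s A := by
    show s * A = A * s
    have e : s * A - A * s = (A * B * A + B * (A * A) + A * A) - (A * A * B + A * B * A + A * A) := by
      rw [hs, hw4, ← hAB]; noncomm_ring
    rw [← sub_eq_zero, e, hA2]; noncomm_ring
  have hsB : Commute s B := by
    show s * B = B * s
    have e : s * B - B * s = A * (B * B + B + 1) - (B * B + B + 1) * A := by
      rw [hs, hw4, ← hAB]; noncomm_ring
    rw [← sub_eq_zero, e, hB2]; noncomm_ring
  have hsL : ∀ x, Commute s (φ (f x)) := by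
    let K : Subgroup S25 :=
      { carrier := {x | Commute s (φ (f x))}
        one_mem' := by simp
        mul_mem' := fun {x y} hx hy => by
          show Commute s (φ (f (x * y))); rw [map_mul, map_mul]; exact Commute.mul_right hx hy
        inv_mem' := fun {x} hx => by
          show Commute s (φ (f x⁻¹)); rw [map_inv]; exact commute_map_inv hx }
    intro x
    have hle : Subgroup.closure ({gA, gT} : Set S25) ≤ K := (Subgroup.closure_le K).2 (by
      rintro y (rfl | rfl)
      · exact hsA
      · show Commute s w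
        rw [← hAB]; exact hsA.mul_right hsB)
    exact hle (closure_gA_gT ▸ Subgroup.mem_top x)
  exact hsL

end Embedded

end Cfsg.Agent.Lib.DivRingSL25
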