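import Cfsg.Agent.Lib.DivRingSL25.Data
import Cfsg.Agent.Lib.TwoRankInter.Main

/-!
A copy of `SL(2,5)` has no overgroup of index two.
-/

set_option autoImplicit false
set_option linter.style.haveILetI false

namespace Cfsg.Agent.Lib.DivRingSL25

universe u v

local notation "S25" => Matrix.SpecialLinearGroup (Fin 2) (ZMod 5)

variable {D : Type u} [DivisionRing D] {G : Type v} [Group G] {φ : G →* D}

namespace Embedded

variable {f : S25 →* G} (E : Embedded φ f)
include E

theorem not_fixes_golden [CharZero D] (hidx : f.range.index = 2) :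
    ¬ ∀ g : G, Commute (φ (f gT) + φ (f gT) ^ 4) (φ g) := by
  intro hall
  obtain ⟨hAA, hZZ, hZ1, hB3, hB1, hT5, hT1, hJJ, hJT, hword, -⟩ := basic_facts
  have htop : f.range ≠ ⊤ := fun h => by rw [h, Subgroup.index_top] at hidx; norm_num at hidx
  obtain ⟨g₀, -, hg₀⟩ := SetLike.exists_of_lt (lt_top_iff_ne_top.2 htop)
  have hf := E.f_inj
  have hfL := E.f_mem
  have hw5 := E.w_pow
  have hw1 := E.w_ne
  set w : D := φ (f gT) with hw
  set s : D := w + w ^ 4 with hs
  have hsum := geom_five hw5 hw1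
  have hw8 : w ^ 8 = w ^ 3 := by rw [show 8 = 5 + 3 from rfl, pow_add, hw5, one_mul]
  have hsne : s + s + 1 ≠ 0 := golden_ne (golden_sq hw5 hw1)
  obtain ⟨x, hx⟩ := E.conj_mem g₀ gT
  have hx5 : x ^ 5 = 1 := hf (by rw [map_pow, hx, conj_pow, ← map_pow, hT5, map_one, mul_one, mul_inv_cancel])
  obtain ⟨l, k, hlk⟩ := conj_gT x hx5
  have hgk : f l * g₀ * f gT = f gT ^ (k : ℕ) * (f l * g₀) := by
    have := congrArg f hlk
    rw [map_mul, map_mul, map_pow, hx] at this
    rw [← mul_assoc (f gT ^ (k : ℕ)), ← this]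
    group
  have hgL : f l * g₀ ∉ f.range := fun h => hg₀ (by simpa using mul_mem (inv_mem (hfL l)) h)
  set g := f l * g₀ with hg
  have hgD : φ g * w = w ^ (k : ℕ) * φ g := by
    rw [hw, ← map_pow, ← map_mul, ← map_mul, hgk]
  have hg0 : φ g ≠ 0 := map_ne_zero' g
  have hk : (k : ℕ) = 1 ∨ (k : ℕ) = 4 := by
    have hsk : s = w ^ (k : ℕ) + (w ^ (k : ℕ)) ^ 4 := by
      refine mul_right_cancel₀ hg0 ?_
      have h4 : φ g * w ^ 4 = (w ^ (k : ℕ)) ^ 4 * φ g :=
        (SemiconjBy.pow_right (hgD : SemiconjBy (φ g) w _) 4).eq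
      rw [(hall g).eq, hs, mul_add, hgD, h4, add_mul]
    have hk5 := k.isLt
    obtain h | h | h | h | h : (k : ℕ) = 0 ∨ (k : ℕ) = 1 ∨ (k : ℕ) = 2 ∨ (k : ℕ) = 3 ∨
        (k : ℕ) = 4 := by omega
    · exfalso
      rw [h, pow_zero, one_mul] at hgD
      exact hw1 (mul_left_cancel₀ hg0 (by rw [hgD, mul_one]))
    · exact Or.inl h
    · exfalso
      rw [h] at hsk
      refine hsne ?_
      have e : s + s + 1 = s + (w ^ 2 + (w ^ 2) ^ 4) + 1 := by rw [← hsk]
      rw [e, hs, ← pow_mul, show 2 * 4 = 8 from rfl, hw8]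
      rw [← hsum]; abel
    · exfalso
      rw [h] at hsk
      refine hsne ?_
      have e : s + s + 1 = s + (w ^ 3 + (w ^ 3) ^ 4) + 1 := by rw [← hsk]
      have h12 : (w ^ 3) ^ 4 = w ^ 2 := by
        rw [← pow_mul, show 3 * 4 = 5 * 2 + 2 from rfl, pow_add, pow_mul, hw5, one_pow, one_mul]
      rw [e, hs, h12, ← hsum]; abel
    · exact Or.inr h
  obtain ⟨c₀, hc₀L, hc₀w⟩ : ∃ c₀ : G, c₀ ∉ f.range ∧ Commute c₀ (f gT) := by
    rcases hk with h | h
    · exact ⟨g, hgL, by rw [h, pow_one] at hgk; exact hgk⟩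
    · refine ⟨f gJ * g, fun hm => hgL (by simpa using mul_mem (inv_mem (hfL gJ)) hm), ?_⟩
      show f gJ * g * f gT = f gT * (f gJ * g)
      rw [h] at hgk
      have e : gJ * gT ^ 4 = gT * gJ := by
        have h1 : gJ * gT ^ 4 = (gT ^ 4) ^ 4 * gJ :=
          (SemiconjBy.pow_right (hJT : SemiconjBy gJ gT _) 4).eq
        rw [h1, ← pow_mul, show 4 * 4 = 5 * 3 + 1 from rfl, pow_succ, pow_mul, hT5, one_pow, one_mul]
      rw [mul_assoc, hgk, ← mul_assoc, ← map_pow, ← map_mul, e, map_mul, mul_assoc]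
  obtain ⟨y, hy⟩ := (Subgroup.mul_mem_iff_of_index_two hidx (a := c₀) (b := c₀)).2 Iff.rfl
  have hyT : y * gT = gT * y := hf (by
    rw [map_mul, map_mul, hy]; exact (hc₀w.mul_left hc₀w).eq)
  obtain ⟨i, hi⟩ := centralizer_gT y hyT
  set e := c₀ ^ 5 with he
  have heL : e ∉ f.range := fun hm => hc₀L (by
    have h2 : c₀ ^ 4 ∈ f.range := by
      rw [show 4 = 2 + 2 from rfl, pow_add, pow_two, ← hy]
      exact mul_mem (hfL y) (hfL y)
    have : c₀ = (c₀ ^ 4)⁻¹ * e := by rw [he, show c₀ ^ 5 = c₀ ^ 4 * c₀ from pow_succ c₀ 4, inv_mul_cancel_left]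
    rw [this]; exact mul_mem (inv_mem h2) hm)
  have hy5 : y ^ 5 = 1 ∨ y ^ 5 = gZ := by
    have hzc : Commute gZ (gT ^ (i : ℕ)) := commute_gZ _
    rcases hi with rfl | rfl
    · left; rw [← pow_mul, mul_comm, pow_mul, hT5, one_pow]
    · right
      rw [hzc.mul_pow, ← pow_mul, mul_comm (i : ℕ), pow_mul, hT5, one_pow, mul_one,
        pow_succ gZ 4, show gZ ^ 4 = 1 by rw [pow_succ, pow_succ, pow_succ, pow_one, hZZ, one_mul, hZZ],
        one_mul]
  have hee : e * e = f gZ := by
    have e1 : e * e = f (y ^ 5) := by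
      rw [map_pow, hy, he, ← pow_add, ← pow_two, ← pow_mul]
    rcases hy5 with h | h
    · exfalso
      rw [h, map_one] at e1
      rcases E.eq_one_or e e1 with h' | h'
      · exact heL (h' ▸ one_mem _)
      · exact heL (h' ▸ hfL _)
    · rw [e1, h]
  have hew : Commute e (f gT) := hc₀w.pow_left 5
  obtain ⟨a', ha'⟩ := E.conj_mem e gA
  let ce : G →* G := (MulAut.conj e).toMonoidHom
  have hce : ∀ u, ce u = e * u * e⁻¹ := fun u => rfl
  have hceT : ce (f gT) = f gT := by rw [hce, hew.eq, mul_inv_cancel_right]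
  have hcea : ce (f gA) = f a' := by rw [hce, ha']
  have haa : a' * a' = gZ := hf (by
    rw [map_mul, ← hcea, ← map_mul, ← map_mul, hAA, ← hee, hce]; group)
  have hb' : (a'⁻¹ * gT) ^ 3 = 1 := hf (by
    rw [map_pow, map_mul, map_inv, ← hcea, ← hceT, ← map_inv, ← map_mul, ← map_pow,
      ← map_inv f, ← map_mul f, ← map_pow f, hB3, map_one, map_one])
  obtain ⟨t, ht⟩ := image_word a' haa hb'
  have hj' : ce (f gJ) = f gT ^ (t : ℕ) * f gJ := by
    rw [← map_pow, ← map_mul, ← ht]
    conv_lhs => rw [← hword]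
    simp only [map_mul, map_pow, hceT, hcea]
  have hjj' : ce (ce (f gJ)) = f gJ := by
    rw [hce, hce, show e * (e * f gJ * e⁻¹) * e⁻¹ = e * e * f gJ * (e * e)⁻¹ by group, hee,
      ← map_mul, ← map_inv, ← map_mul]
    rw [commute_gZ, mul_inv_cancel_right]
  have ht0 : f gT ^ (t : ℕ) * (f gT ^ (t : ℕ) * f gJ) = f gJ := by
    conv_rhs => rw [← hjj', hj', map_mul, map_pow, hceT, hj']
  rw [← map_pow, ← map_mul, ← map_mul] at ht0
  have ht1 : gT ^ (t : ℕ) * gT ^ (t : ℕ) = 1 := by
    have := hf ht0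
    rw [← mul_assoc] at this
    simpa using this
  have ht' : t = 0 := two_pow_gT t ht1
  rw [ht', Fin.val_zero, pow_zero, one_mul, hce, mul_inv_eq_iff_eq_mul] at hj'
  rcases eq_or_eq_of_commute_sq E.inj E.map_gZ hee (by rw [← map_mul, hJJ]) hj' with h | h
  · exact heL (h ▸ hfL _)
  · exact heL (h ▸ mul_mem (hfL _) (hfL _))

theorem not_moves_golden [CharZero D] [Finite G] (hidx : f.range.index = 2) :
    ∀ g : G, Commute (φ (f gT) + φ (f gT) ^ 4) (φ g) := by
  by_contra hall
  obtain ⟨hAA, hZZ, hZ1, -, -, -, -, hJJ, -, -, -⟩ := basic_facts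
  have hf := E.f_inj
  have hfL := E.f_mem
  have huniq := E.eq_one_or
  have hfz := E.map_gZ
  have hsL := E.commute_golden
  have hs2 := golden_sq E.w_pow E.w_ne
  set w : D := φ (f gT) with hw
  set s : D := w + w ^ 4 with hs
  push Not at hall
  obtain ⟨g₁, hg₁⟩ := hall
  have hg₁L : g₁ ∉ f.range := fun h => hg₁ (by obtain ⟨x, rfl⟩ := h; exact hsL x)
  have hmove : ∀ g, g ∉ f.range → ¬ Commute s (φ g) := by
    intro g hg hc
    obtain ⟨y, hy⟩ := (Subgroup.mul_mem_iff_of_index_two hidx (a := g₁) (b := g)).2 (by simp [hg₁L, hg])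
    have h1 : Commute s (φ g₁ * φ g) := by rw [← map_mul, ← hy]; exact hsL y
    refine hg₁ ?_
    have := h1.mul_right (commute_map_inv hc)
    rwa [mul_assoc, ← map_mul, mul_inv_cancel, map_one, mul_one] at this
  obtain ⟨h, hhL, hh2⟩ : ∃ h, h ∉ f.range ∧ h * h = f gZ := by
    haveI : Fact (Nat.Prime 2) := ⟨Nat.prime_two⟩
    let S : Sylow 2 G := default
    have hSL : ¬ (S : Subgroup G) ≤ f.range := fun hle => by
      have h := Subgroup.index_dvd_of_le hle
      rw [hidx] at h
      exact S.not_dvd_index h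
    rcases TwoRankInter.isCyclic_or_quaternion_of_unique S.2 (fun a b ha hb => Subtype.ext (by
        have ha' := ha ▸ pow_orderOf_eq_one a
        have hb' := hb ▸ pow_orderOf_eq_one b
        rw [pow_two] at ha' hb'
        rw [(huniq _ (congrArg Subtype.val ha')).resolve_left (fun h => by
          rw [show a = 1 from Subtype.ext h, orderOf_one] at ha; norm_num at ha),
          (huniq _ (congrArg Subtype.val hb')).resolve_left (fun h => by
          rw [show b = 1 from Subtype.ext h, orderOf_one] at hb; norm_num at hb)])) with hcyc | ⟨n, ⟨eq⟩⟩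
    · exfalso
      let K : Subgroup S25 := Subgroup.normalizer ((Subgroup.zpowers gJ : Subgroup S25) : Set S25)
      obtain ⟨e1, e2, hJ4, hne⟩ := conj_gJ
      have key := normalizer_gJ
      have hK : IsPGroup 2 K := fun x => ⟨3, Subtype.ext (key x (by
        have := (Subgroup.mem_normalizer_iff.1 x.2 gJ).1 (Subgroup.mem_zpowers gJ)
        obtain ⟨k, hk⟩ := Subgroup.mem_zpowers_iff.1 this
        refine ⟨⟨(k % 4).toNat, by omega⟩, ?_⟩
        have hz : ((((k % 4).toNat : ℕ)) : ℤ) = k % 4 := Int.toNat_of_nonneg (by omega)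
        rw [← hk, ← zpow_natCast gJ, hz, zpow_eq_zpow_emod' k hJ4]
        norm_num))⟩
      obtain ⟨Q, hQ⟩ := (hK.map f).exists_le_sylow
      obtain ⟨g, hg⟩ := MulAction.exists_smul_eq G S Q
      haveI := hcyc
      haveI : IsCyclic (Q : Subgroup G) := isCyclic_of_surjective _ (S.equiv Q).surjective
      have hAK : gA ∈ K := by
        refine Subgroup.mem_normalizer_iff.2 fun y => ⟨fun hy => ?_, fun hy => ?_⟩
        · obtain ⟨k, rfl⟩ := Subgroup.mem_zpowers_iff.1 hy
          rw [← conj_zpow, e1]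
          exact zpow_mem (inv_mem (Subgroup.mem_zpowers gJ)) k
        · obtain ⟨k, hk⟩ := Subgroup.mem_zpowers_iff.1 hy
          have e3 : y = gA⁻¹ * gJ ^ k * (gA⁻¹)⁻¹ := by rw [hk]; group
          rw [e3, ← conj_zpow, e2]
          exact zpow_mem (inv_mem (Subgroup.mem_zpowers gJ)) k
      have hJK : gJ ∈ K := by
        exact Subgroup.le_normalizer (Subgroup.mem_zpowers gJ)
      refine hne (hf ?_)
      rw [map_mul, map_mul]
      exact congrArg Subtype.val
        ((IsCyclic.isMulCommutative (α := (Q : Subgroup G))).is_comm.comm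
          ⟨f gA, hQ ⟨gA, hAK, rfl⟩⟩ ⟨f gJ, hQ ⟨gJ, hJK, rfl⟩⟩)
    · by_contra hcon
      push Not at hcon
      apply hSL
      have hxa : ∀ i, ((eq.symm (QuaternionGroup.xa i) : S) : G) ∈ f.range := fun i => by
        by_contra hi
        refine hcon _ hi ?_
        have h4 : orderOf (QuaternionGroup.xa i : QuaternionGroup (2 ^ n)) = 4 := QuaternionGroup.orderOf_xa i
        rw [← eq.symm.orderOf_eq, ← Subgroup.orderOf_coe] at h4
        refine (huniq _ ?_).resolve_left fun h2 => ?_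
        · rw [show ∀ t : G, t * t * (t * t) = t ^ 4 from fun t => by simp [pow_succ, mul_assoc],
            ← h4, pow_orderOf_eq_one]
        · have := orderOf_dvd_of_pow_eq_one (G := G) (n := 2) (by rw [pow_two]; exact h2)
          rw [h4] at this; norm_num at this
      intro x hx
      obtain ⟨q, hq⟩ : ∃ q, (eq.symm q : S) = ⟨x, hx⟩ := ⟨eq ⟨x, hx⟩, eq.symm_apply_apply _⟩
      have hx' : x = ((eq.symm q : S) : G) := by rw [hq]
      rw [hx']
      rcases q with i | i
      · rw [show (QuaternionGroup.a i : QuaternionGroup (2 ^ n)) =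
          (QuaternionGroup.xa 0)⁻¹ * QuaternionGroup.xa i from
          eq_inv_mul_of_mul_eq (by rw [QuaternionGroup.xa_mul_a, zero_add]), map_mul, map_inv]
        push_cast
        exact mul_mem (inv_mem (hxa 0)) (hxa i)
      · exact hxa i
  have hh0 : φ h ≠ 0 := fun h0 => by
    have : φ h * φ h⁻¹ = 1 := by rw [← map_mul, mul_inv_cancel, map_one]
    rw [h0, zero_mul] at this; exact zero_ne_one this
  -- `h s h⁻¹ = -1 - s`
  obtain ⟨x, hx⟩ := E.conj_mem h gT
  have hhT : φ h * w = φ (f x) * φ h := by rw [hw, hx, ← map_mul, ← map_mul, inv_mul_cancel_right]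
  set s' : D := φ (f x) + φ (f x) ^ 4 with hs'
  have hhs : φ h * s = s' * φ h := by
    have h4 : φ h * w ^ 4 = φ (f x) ^ 4 * φ h :=
      (SemiconjBy.pow_right (hhT : SemiconjBy (φ h) w _) 4).eq
    rw [hs, hs', mul_add, add_mul, hhT, h4]
  have hss' : Commute s s' := (hsL x).add_right ((hsL x).pow_right 4)
  have hs'2 : s' * s' + s' = 1 := by
    refine mul_right_cancel₀ hh0 ?_
    have e1 : s' * s' * φ h = φ h * (s * s) := by rw [mul_assoc, ← hhs, ← mul_assoc, ← hhs, mul_assoc]
    rw [add_mul, e1, ← hhs, ← mul_add, hs2, mul_one, one_mul]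
  have hdiff : s' = -1 - s := by
    have hz : (s' - s) * (s' + s + 1) = 0 := by
      have e : (s' - s) * (s' + s + 1) = (s' * s' + s') - (s * s + s) + (s' * s - s * s') := by
        noncomm_ring
      rw [e, hs'2, hs2, hss'.eq, sub_self, sub_self, zero_add]
    rcases mul_eq_zero.1 hz with h1 | h1
    · exfalso
      rw [sub_eq_zero.1 h1] at hhs
      exact hmove h hhL hhs.symm
    · rw [← sub_eq_zero, ← h1]; abel
  set t : D := s + s + 3 with ht
  have hnorm : (s' + s' + 3) * t = -1 := by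
    rw [hdiff, ht, show (3 : D) = 1 + 1 + 1 by norm_num]
    have e : (-1 - s + (-1 - s) + (1 + 1 + 1)) * (s + s + (1 + 1 + 1)) =
        -((s * s + s) + (s * s + s) + (s * s + s) + (s * s + s)) + (1 + 1 + 1) := by noncomm_ring
    rw [e, hs2]; abel
  have h2' : φ h * φ h = -1 := by rw [← map_mul, hh2, hfz]
  have hsq : φ h * t * (φ h * t) = 1 := by
    calc φ h * t * (φ h * t) = (φ h * (t * φ h)) * t := by noncomm_ring
      _ = 1 := by
        have : t * φ h = φ h * (s' + s' + 3) := by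
          have hback : φ h * s' = s * φ h := by
            refine mul_left_cancel₀ hh0 ?_
            rw [← mul_assoc, h2', ← mul_assoc, hhs, mul_assoc, h2', neg_one_mul, mul_neg, mul_one]
          rw [ht, mul_add, mul_add, hback, add_mul, add_mul,
            show (3 : D) * φ h = φ h * 3 from (Nat.cast_commute 3 (φ h)).eq]
        rw [this, ← mul_assoc, h2', neg_one_mul, neg_mul, hnorm, neg_neg]
  have hst : Commute s t := ((Commute.refl s).add_right (Commute.refl s)).add_right (Nat.cast_commute 3 s).symm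
  have ht0 : t ≠ 0 := fun h0 => by rw [h0, mul_zero] at hnorm; exact one_ne_zero (neg_eq_zero.1 hnorm.symm)
  have hcomm : Commute s (φ h * t) := by
    rcases mul_self_eq_one_iff.1 hsq with h1 | h1 <;> rw [h1]
    · exact Commute.one_right s
    · exact (Commute.one_right s).neg_right
  refine hmove h hhL ?_
  show s * φ h = φ h * s
  refine mul_right_cancel₀ ht0 ?_
  rw [mul_assoc, hcomm.eq, mul_assoc, ← hst.eq, ← mul_assoc]

end Embedded

end Cfsg.Agent.Lib.DivRingSL25
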