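import Cfsg.Agent.Lib.DivRingSL25.Centralizer
import Cfsg.Agent.Lib.DivRingSL25.Index
import Cfsg.Agent.Lib.Zass25.Structure
import Cfsg.Agent.Lib.FrobRep.Constructions

/-!
Finite insoluble subgroups of division rings.
-/

set_option autoImplicit false
set_option linter.style.haveILetI false

namespace Cfsg.Agent.Lib.DivRingSL25

universe u v

local notation "S25" => Matrix.SpecialLinearGroup (Fin 2) (ZMod 5)

variable {D : Type u} [DivisionRing D] {G : Type v} [Group G] {φ : G →* D}

theorem mulEquiv_sl25 [Finite G] (hφ : Function.Injective φ) (hns : ¬ Group.IsSolvable G) :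
    Nonempty (G ≃* S25) := by
  classical
  haveI : CharZero D := charZero_of_insoluble hφ hns
  haveI : Nontrivial G := by
    by_contra h
    haveI := not_nontrivial_iff_subsingleton.1 h
    exact hns (Group.isSolvable_of_comm fun a b => Subsingleton.elim _ _)
  have hφu : Function.Injective φ.toHomUnits := fun a b h => hφ (congrArg Units.val h)
  have hfpf := Zass25.hasFpfRep_of_occursAsComplement
    (FrobRep.exists_complement_of_units φ.toHomUnits hφu)
  obtain ⟨L, hLn, hL, ⟨eL⟩⟩ := Zass25.exists_normal_sl25 hfpf hns
  let f : S25 →* G := L.subtype.comp eL.symm.toMonoidHom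
  have hrange : f.range = L := by
    rw [MonoidHom.range_comp, MonoidHom.range_eq_top.2 eL.symm.surjective, ← MonoidHom.range_eq_map,
      Subgroup.range_subtype]
  have E : Embedded φ f :=
    ⟨hφ, L.subtype_injective.comp eL.symm.injective, by rw [hrange]; exact hLn⟩
  have hidx := Zass25.index_sup_centralizer_le hfpf hL
  rw [sup_eq_left.2 (hrange ▸ E.centralizer_le)] at hidx
  by_cases htop : L = ⊤
  · exact ⟨(Subgroup.topEquiv.symm.trans (MulEquiv.subgroupCongr htop.symm)).trans eL⟩
  exfalso
  have hidx2 : f.range.index = 2 := by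
    rw [hrange]
    have h0 : L.index ≠ 0 := Subgroup.index_ne_zero_of_finite
    have h1 : L.index ≠ 1 := fun h => htop (Subgroup.index_eq_one.1 h)
    omega
  exact E.not_fixes_golden hidx2 (E.not_moves_golden hidx2)

end Cfsg.Agent.Lib.DivRingSL25
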